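import Mathlib

set_option autoImplicit false

namespace Cfsg.Agent.Lib.Helper22

/-- A group of order `p ^ r` is generated by `r` elements. -/
theorem exists_generators_of_card_eq_pow (p : ℕ) [hp : Fact p.Prime] : ∀ (r : ℕ) (Q : Type*) [Group Q] [Finite Q],
    Nat.card Q = p ^ r → ∃ g : Fin r → Q, Subgroup.closure (Set.range g) = ⊤ := by
  intro r
  induction r with
  | zero =>
    intro Q _ _ hQ
    rw [pow_zero, Nat.card_eq_one_iff_unique] at hQ
    have := hQ.1
    exact ⟨fun _ => 1, Subsingleton.elim _ _⟩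
  | succ r ih =>
    intro Q _ _ hQ
    obtain ⟨M, hM⟩ := Sylow.exists_subgroup_card_pow_prime (G := Q) p (n := r)
      (by rw [hQ]; exact pow_dvd_pow p (Nat.le_succ r))
    obtain ⟨g', hg'⟩ := ih M hM
    have hMtop : M ≠ ⊤ := by
      intro h
      rw [h, Subgroup.card_top, hQ] at hM
      exact absurd (Nat.pow_right_injective hp.out.two_le hM) (by omega)
    obtain ⟨x, hx⟩ : ∃ x, x ∉ M := by
      by_contra hall
      push Not at hall
      exact hMtop (eq_top_iff.mpr fun y _ => hall y)
    refine ⟨Fin.cons x (fun i => (g' i : Q)), ?_⟩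
    set K := Subgroup.closure (Set.range (Fin.cons x (fun i => (g' i : Q)) : Fin (r + 1) → Q)) with hK
    have hxK : x ∈ K := Subgroup.subset_closure ⟨0, by simp⟩
    have hMK : M ≤ K := by
      have h1 : M = (Subgroup.closure (Set.range g')).map M.subtype := by
        rw [hg', ← MonoidHom.range_eq_map, Subgroup.range_subtype]
      rw [h1, MonoidHom.map_closure, Subgroup.closure_le]
      rintro _ ⟨_, ⟨i, rfl⟩, rfl⟩
      exact Subgroup.subset_closure ⟨i.succ, by simp⟩
    have h1 : Nat.card K ∣ p ^ (r + 1) := hQ ▸ Subgroup.card_subgroup_dvd_card K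
    obtain ⟨j, hj, hKj⟩ := (Nat.dvd_prime_pow hp.out).mp h1
    have h2 : Nat.card M < Nat.card K := by
      have hlt : M < K := lt_of_le_of_ne hMK (fun h => hx (h ▸ hxK))
      exact Set.Finite.card_lt_card (Set.toFinite _) (SetLike.coe_ssubset_coe.mpr hlt)
    rw [hM, hKj] at h2
    have h3 : r < j := (Nat.pow_lt_pow_iff_right hp.out.one_lt).mp h2
    have h4 : j = r + 1 := by omega
    apply Subgroup.eq_top_of_card_eq
    rw [hKj, h4, hQ]

end Cfsg.Agent.Lib.Helper22
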