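import Mathlib

set_option autoImplicit false

namespace Cfsg.Agent.Lib.Helper22

open scoped commutatorElement

variable {G : Type*} [Group G]

/-- `⁅X, Y⁆ ≤ N` for normal `N` says that `X` lies in a certain subgroup. -/
theorem comm_le_iff (N : Subgroup G) [N.Normal] (X Y : Subgroup G) :
    ⁅X, Y⁆ ≤ N ↔ X ≤ (Subgroup.centralizer ((Y.map (QuotientGroup.mk' N) : Subgroup (G ⧸ N)) : Set (G ⧸ N))).comap
      (QuotientGroup.mk' N) := by
  rw [← Subgroup.map_le_iff_le_comap, ← Subgroup.commutator_eq_bot_iff_le_centralizer,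
    ← Subgroup.map_commutator, Subgroup.map_eq_bot_iff, QuotientGroup.ker_mk']

theorem commutator_sup_left_le (N : Subgroup G) [N.Normal] (X₁ X₂ Y : Subgroup G)
    (h1 : ⁅X₁, Y⁆ ≤ N) (h2 : ⁅X₂, Y⁆ ≤ N) : ⁅X₁ ⊔ X₂, Y⁆ ≤ N := by
  rw [comm_le_iff] at h1 h2 ⊢
  exact sup_le h1 h2

theorem commutator_sup_right_le (N : Subgroup G) [N.Normal] (X Y₁ Y₂ : Subgroup G)
    (h1 : ⁅X, Y₁⁆ ≤ N) (h2 : ⁅X, Y₂⁆ ≤ N) : ⁅X, Y₁ ⊔ Y₂⁆ ≤ N := by
  rw [Subgroup.commutator_comm] at h1 h2 ⊢
  exact commutator_sup_left_le N _ _ _ h1 h2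

theorem commutator_iSup_left_le {ι : Sort*} (N : Subgroup G) [N.Normal] (X : ι → Subgroup G) (Y : Subgroup G)
    (h : ∀ i, ⁅X i, Y⁆ ≤ N) : ⁅⨆ i, X i, Y⁆ ≤ N := by
  rw [comm_le_iff]
  exact iSup_le fun i => (comm_le_iff N _ _).mp (h i)

/-- If `G = ⟨a, b⟩` and the normal subgroup `N` contains `⁅a, b⁆` then `G' ≤ N`. -/
theorem commutator_le_of_closure_pair (N : Subgroup G) [N.Normal] (a b : G)
    (hab : Subgroup.closure ({a, b} : Set G) = ⊤) (h : ⁅a, b⁆ ∈ N) : commutator G ≤ N := by
  rw [← Subgroup.Normal.quotient_commutative_iff_commutator_le]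
  have h1 : (QuotientGroup.mk' N a) * (QuotientGroup.mk' N b) = (QuotientGroup.mk' N b) * (QuotientGroup.mk' N a) := by
    rw [← commutatorElement_eq_one_iff_mul_comm, ← map_commutatorElement, ← MonoidHom.mem_ker,
      QuotientGroup.ker_mk']
    exact h
  have h2 : Subgroup.closure ({QuotientGroup.mk' N a, QuotientGroup.mk' N b} : Set (G ⧸ N)) = ⊤ := by
    have := congrArg (Subgroup.map (QuotientGroup.mk' N)) hab
    rw [MonoidHom.map_closure, Set.image_pair, ← MonoidHom.range_eq_map,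
      MonoidHom.range_eq_top.mpr (QuotientGroup.mk'_surjective N)] at this
    exact this
  have h3 : IsMulCommutative (Subgroup.closure ({QuotientGroup.mk' N a, QuotientGroup.mk' N b} : Set (G ⧸ N))) := by
    apply Subgroup.isMulCommutative_closure
    intro x hx y hy
    rcases hx with rfl | rfl <;> rcases hy with rfl | rfl
    · rfl
    · exact h1
    · exact h1.symm
    · rfl
  rw [h2] at h3
  exact ⟨⟨fun x y => congrArg Subtype.val (h3.is_comm.comm ⟨x, trivial⟩ ⟨y, trivial⟩)⟩⟩

/-- In a nilpotent group, if `X` is commutative and `X G' = G` then `G` is commutative. -/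
theorem commutator_eq_bot_of_sup_commutator_eq_top [hG : Group.IsNilpotent G] (X : Subgroup G)
    (hX : IsMulCommutative X) (h : X ⊔ commutator G = ⊤) : commutator G = ⊥ := by
  have h1 : commutator G ≤ ⁅commutator G, (⊤ : Subgroup G)⁆ := by
    nth_rewrite 1 [commutator_def]
    rw [← h]
    have hN : (⁅commutator G, X ⊔ commutator G⁆).Normal := by rw [h]; infer_instance
    apply commutator_sup_left_le
    · apply commutator_sup_right_le
      · rw [Subgroup.commutator_self_eq_bot_iff.mpr hX]; exact bot_le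
      · rw [Subgroup.commutator_comm]
        exact Subgroup.commutator_mono le_rfl le_sup_left
    · exact Subgroup.commutator_mono le_rfl le_rfl
  have h2 : ∀ n : ℕ, commutator G ≤ (⊤ : Subgroup G).lowerCentralSeries (n + 1) := by
    intro n
    induction n with
    | zero => exact le_of_eq Subgroup.top_lowerCentralSeries_one.symm
    | succ n ih =>
      rw [Subgroup.lowerCentralSeries_succ]
      exact h1.trans (Subgroup.commutator_mono ih le_rfl)
  obtain ⟨n, hn⟩ := Subgroup.nilpotent_iff_lowerCentralSeries.mp hG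
  have h3 := h2 n
  have h4 : (⊤ : Subgroup G).lowerCentralSeries (n + 1) ≤ (⊤ : Subgroup G).lowerCentralSeries n :=
    Subgroup.lowerCentralSeries_antitone _ (Nat.le_succ n)
  rw [hn] at h4
  exact eq_bot_iff.mpr (h3.trans h4)

end Cfsg.Agent.Lib.Helper22
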