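import Mathlib

set_option autoImplicit false

namespace Cfsg.Agent.Lib.Helper22

open Subgroup

/-- The union of the conjugates of a subgroup `D`. -/
def conjUnion {G : Type*} [Group G] (D : Subgroup G) : Set G := {x | ∃ g : G, g⁻¹ * x * g ∈ D}

theorem one_mem_conjUnion {G : Type*} [Group G] (D : Subgroup G) : (1 : G) ∈ conjUnion D :=
  ⟨1, by simp⟩

/-- `|⋃ D^g| ≤ 1 + |G : N(D)| (|D| - 1)`. -/
theorem ncard_conjUnion_le {G : Type*} [Group G] [Finite G] (D : Subgroup G) :
    (conjUnion D).ncard ≤ 1 + (normalizer (D : Set G)).index * (Nat.card D - 1) := by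
  classical
  set N := normalizer (D : Set G) with hN
  let f : (G ⧸ N) × {d : D // d ≠ 1} → G := fun c => c.1.out * (c.2.1 : G) * (c.1.out)⁻¹
  have hsub : conjUnion D ⊆ insert 1 (Set.range f) := by
    rintro x ⟨g, hg⟩
    by_cases hx : x = 1
    · left; exact hx
    · right
      obtain ⟨h, hh⟩ := QuotientGroup.mk_out_eq_mul N g
      have hd : (h : G)⁻¹ * (g⁻¹ * x * g) * h ∈ D := by
        have := (mem_normalizer_iff.1 (N.inv_mem h.2) (g⁻¹ * x * g)).1 hg
        simpa using this
      refine ⟨⟨QuotientGroup.mk g, ⟨⟨_, hd⟩, ?_⟩⟩, ?_⟩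
      · intro h1
        apply hx
        have h2 : (h : G)⁻¹ * (g⁻¹ * x * g) * h = 1 := congrArg Subtype.val h1
        have : x = (g * h) * ((h : G)⁻¹ * (g⁻¹ * x * g) * h) * (g * h)⁻¹ := by group
        rw [this, h2]; group
      · simp only [f]
        rw [hh]; group
  have h1 : (conjUnion D).ncard ≤ (insert 1 (Set.range f)).ncard :=
    Set.ncard_le_ncard hsub (Set.toFinite _)
  have h2 : (insert 1 (Set.range f)).ncard ≤ (Set.range f).ncard + 1 := Set.ncard_insert_le _ _
  have h3 : (Set.range f).ncard ≤ Nat.card ((G ⧸ N) × {d : D // d ≠ 1}) := by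
    rw [← Nat.card_coe_set_eq]
    exact Finite.card_range_le f
  have h4 : Nat.card ((G ⧸ N) × {d : D // d ≠ 1}) = N.index * (Nat.card D - 1) := by
    rw [Nat.card_prod]
    congr 1
    have := Nat.card_congr (Equiv.sumCompl (fun d : D => d = 1))
    rw [Nat.card_sum, Nat.card_unique] at this
    have h5 : Nat.card {d : D // d ≠ 1} = Nat.card {d : D // ¬ d = 1} := rfl
    omega
  omega

/-- If `D` is not self-normalizing, its conjugates cover at most half of the group. -/
theorem two_mul_ncard_conjUnion_le {G : Type*} [Group G] [Finite G] (D : Subgroup G)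
    (hD : normalizer (D : Set G) ≠ D) : 2 * (conjUnion D).ncard ≤ Nat.card G := by
  have h1 := ncard_conjUnion_le D
  set N := normalizer (D : Set G) with hN
  have hle : D ≤ N := le_normalizer
  have h2 : Nat.card D * D.relIndex N = Nat.card N := by
    have := relIndex_mul_relIndex ⊥ D N bot_le hle
    rwa [relIndex_bot_left, relIndex_bot_left] at this
  have h3 : 2 ≤ D.relIndex N := by
    have h4 : D.relIndex N ≠ 1 := by
      intro h
      rw [relIndex_eq_one] at h
      exact hD (le_antisymm h hle)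
    have h5 : D.relIndex N ≠ 0 := by
      intro h
      rw [h, mul_zero] at h2
      exact (Nat.card_pos (α := N)).ne h2
    omega
  have h6 : Nat.card N * N.index = Nat.card G := N.card_mul_index
  have h7 : 0 < N.index := Nat.pos_of_ne_zero index_ne_zero_of_finite
  have h8 : 0 < Nat.card D := Nat.card_pos
  have h9 : 2 * Nat.card D ≤ Nat.card N := by
    rw [← h2, mul_comm]; exact Nat.mul_le_mul_left _ h3
  obtain ⟨d, hd⟩ : ∃ d, Nat.card D = d + 1 := ⟨Nat.card D - 1, by omega⟩
  rw [hd] at h1 h9
  simp only [Nat.add_sub_cancel] at h1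
  have h10 : 2 * (d + 1) * N.index ≤ Nat.card G := by
    rw [← h6]; exact Nat.mul_le_mul_right _ h9
  nlinarith

end Cfsg.Agent.Lib.Helper22
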