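import Mathlib

set_option autoImplicit false

namespace Cfsg.Agent.Lib.Helper22

variable {G : Type*} [Group G]

/-- The index of the centralizer of `x` is the size of the conjugacy class of `x`. -/
theorem index_centralizer_eq_card_carrier (x : G) :
    (Subgroup.centralizer ({x} : Set G)).index = Nat.card (ConjClasses.mk x).carrier := by
  have h : (Subgroup.centralizer ({x} : Set G)).index = (MulAction.stabilizer (ConjAct G) x).index := by
    rw [Subgroup.centralizer_eq_comap_stabilizer]
    exact Subgroup.index_comap_of_surjective _ (ConjAct.toConjAct (G := G)).surjective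
  rw [h, MulAction.index_stabilizer, ConjAct.orbit_eq_carrier_conjClasses]
  rfl

theorem index_centralizer_eq_card_isConj (x : G) :
    (Subgroup.centralizer ({x} : Set G)).index = Nat.card {y : G // IsConj x y} := by
  rw [index_centralizer_eq_card_carrier]
  apply Nat.card_congr
  apply Equiv.subtypeEquivRight
  intro y
  rw [ConjClasses.mem_carrier_iff_mk_eq, ConjClasses.mk_eq_mk_iff_isConj]
  exact ⟨fun h => h.symm, fun h => h.symm⟩

end Cfsg.Agent.Lib.Helper22
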