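import Mathlib
import Cfsg.Agent.S0040

set_option autoImplicit false

namespace Cfsg.Agent.Lib.Helper22

open Subgroup

/-- A finite `q`-group acting fixed-point-freely on a nontrivial finite group is cyclic or
generalized quaternion. -/
theorem cyclic_or_quaternion_of_fpf {H V : Type*} [Group H] [Finite H] [Group V] [Finite V]
    [Nontrivial V] (φ : H →* MulAut V) (hφ : ∀ h : H, h ≠ 1 → ∀ v : V, φ h v = v → v = 1)
    (q : ℕ) [Fact q.Prime] (hH : IsPGroup q H) :
    IsCyclic H ∨ ∃ n : ℕ, Nonempty (H ≃* QuaternionGroup (2 ^ n)) := by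
  have : Finite (V ⋊[φ] H) := Finite.of_equiv _ SemidirectProduct.equivProd.symm
  let K : Subgroup (V ⋊[φ] H) := (SemidirectProduct.inl : V →* V ⋊[φ] H).range
  let Hs : Subgroup (V ⋊[φ] H) := (SemidirectProduct.inr : H →* V ⋊[φ] H).range
  have hKn : K.Normal := by
    show ((SemidirectProduct.inl : V →* V ⋊[φ] H).range).Normal
    rw [SemidirectProduct.range_inl_eq_ker_rightHom]
    infer_instance
  have hdisj : Disjoint K Hs := by
    rw [disjoint_def]
    rintro x ⟨v, rfl⟩ ⟨h, hh⟩
    have h1 := congrArg SemidirectProduct.left hh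
    simp at h1
    rw [← h1, map_one]
  have hc : IsComplement' K Hs := by
    apply isComplement'_of_disjoint_and_mul_eq_univ hdisj
    rw [Set.eq_univ_iff_forall]
    intro g
    exact ⟨SemidirectProduct.inl g.left, ⟨g.left, rfl⟩, SemidirectProduct.inr g.right,
      ⟨g.right, rfl⟩, SemidirectProduct.inl_left_mul_inr_right g⟩
  have hK : K ≠ ⊥ := by
    intro h
    obtain ⟨v, hv⟩ := exists_ne (1 : V)
    have : (SemidirectProduct.inl v : V ⋊[φ] H) ∈ K := ⟨v, rfl⟩
    rw [h, mem_bot] at this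
    exact hv (SemidirectProduct.inl_injective (this.trans (map_one _).symm))
  have hfpf : ∀ h ∈ Hs, h ≠ 1 → K ⊓ centralizer {h} = ⊥ := by
    rintro _ ⟨y, rfl⟩ hy
    have hy1 : y ≠ 1 := by
      rintro rfl
      exact hy (map_one _)
    rw [eq_bot_iff]
    rintro _ ⟨⟨v, rfl⟩, hv⟩
    replace hv : (SemidirectProduct.inl v : V ⋊[φ] H) ∈
      centralizer {(SemidirectProduct.inr y : V ⋊[φ] H)} := hv
    rw [mem_centralizer_singleton_iff] at hv
    have h1 : (SemidirectProduct.inl (φ y v) : V ⋊[φ] H) = SemidirectProduct.inl v := by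
      rw [SemidirectProduct.inl_aut, ← hv, map_inv, mul_inv_cancel_right]
    have h2 := hφ y hy1 v (SemidirectProduct.inl_injective h1)
    rw [h2, map_one]
    exact one_mem _
  let e : H ≃* Hs := MonoidHom.ofInjective (SemidirectProduct.inr_injective (φ := φ))
  have hHs : IsPGroup q Hs := hH.of_equiv e
  let P : Sylow q Hs := default
  have hPtop : (P : Subgroup Hs) = ⊤ := by
    obtain ⟨Q, hQ⟩ := (IsPGroup.of_surjective hHs (Subgroup.topEquiv (G := Hs)).symm.toMonoidHom
      (Subgroup.topEquiv (G := Hs)).symm.surjective).exists_le_sylow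
    have hQtop : (Q : Subgroup Hs) = ⊤ := top_le_iff.1 hQ
    obtain ⟨g, hg⟩ := MulAction.exists_smul_eq Hs Q P
    rw [← hg, Sylow.coe_subgroup_smul, hQtop]
    simp
  let e2 : H ≃* (P : Subgroup Hs) :=
    e.trans ((Subgroup.topEquiv (G := Hs)).symm.trans (MulEquiv.subgroupCongr hPtop.symm))
  rcases Cfsg.Agent.S0040.result K Hs hc hK hfpf q P with h1 | ⟨n, ⟨f⟩⟩
  · left
    exact isCyclic_of_surjective e2.symm e2.symm.surjective
  · right
    exact ⟨n, ⟨e2.trans f⟩⟩

end Cfsg.Agent.Lib.Helper22
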