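import Mathlib

set_option autoImplicit false

namespace Cfsg.Agent.Lib.Helper22

/-- A maximal subgroup of a finite `p`-group is normal of index `p`. -/
theorem coatom_normal_index {P : Type*} [Group P] [Finite P] {p : ℕ} [hp : Fact p.Prime] (hP : IsPGroup p P)
    (M : Subgroup P) (hM : IsCoatom M) : M.Normal ∧ M.index = p := by
  have hnil : Group.IsNilpotent P := hP.isNilpotent
  have hn : M.Normal := Subgroup.NormalizerCondition.normal_of_coatom M Group.normalizerCondition_of_isNilpotent hM
  refine ⟨hn, ?_⟩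
  have hQ : IsPGroup p (P ⧸ M) := hP.to_quotient M
  obtain ⟨k, hk⟩ := IsPGroup.iff_card.mp hQ
  have hk0 : k ≠ 0 := by
    rintro rfl
    rw [pow_zero] at hk
    have : M.index = 1 := hk
    rw [Subgroup.index_eq_one] at this
    exact hM.1 this
  have hdvd : p ∣ Nat.card (P ⧸ M) := by rw [hk]; exact dvd_pow_self p hk0
  obtain ⟨xb, hxb⟩ := exists_prime_orderOf_dvd_card' p hdvd
  obtain ⟨x, rfl⟩ := QuotientGroup.mk_surjective xb
  set C := Subgroup.zpowers (QuotientGroup.mk x : P ⧸ M) with hC
  set K := C.comap (QuotientGroup.mk' M) with hK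
  have hMK : M ≤ K := by
    intro m hm
    rw [hK, Subgroup.mem_comap]
    have : QuotientGroup.mk' M m = 1 := (QuotientGroup.eq_one_iff m).mpr hm
    rw [this]; exact one_mem _
  have hxK : x ∈ K := by
    rw [hK, Subgroup.mem_comap]; exact Subgroup.mem_zpowers _
  have hxM : x ∉ M := by
    intro h
    have : (QuotientGroup.mk x : P ⧸ M) = 1 := (QuotientGroup.eq_one_iff x).mpr h
    rw [this, orderOf_one] at hxb
    exact hp.out.one_lt.ne hxb
  have hKtop : K = ⊤ := hM.2 K (lt_of_le_of_ne hMK (fun h => hxM (h ▸ hxK)))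
  have hCtop : C = ⊤ := by
    rw [eq_top_iff]
    intro yb _
    obtain ⟨y, rfl⟩ := QuotientGroup.mk_surjective yb
    have : y ∈ K := by rw [hKtop]; trivial
    exact this
  have : Nat.card (P ⧸ M) = p := by
    rw [← Subgroup.card_top, ← hCtop, hC, Nat.card_zpowers, hxb]
  exact this

theorem commutator_le_frattini {P : Type*} [Group P] [Finite P] {p : ℕ} [hp : Fact p.Prime] (hP : IsPGroup p P) :
    commutator P ≤ frattini P := by
  unfold frattini Order.radical
  refine le_iInf fun M => le_iInf fun hM => ?_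
  obtain ⟨hn, hidx⟩ := coatom_normal_index hP M hM
  rw [← Subgroup.Normal.quotient_commutative_iff_commutator_le]
  have hcard : Nat.card (P ⧸ M) = p := hidx
  have : IsCyclic (P ⧸ M) := isCyclic_of_prime_card hcard
  exact IsCyclic.isMulCommutative

theorem pow_mem_frattini {P : Type*} [Group P] [Finite P] {p : ℕ} [hp : Fact p.Prime] (hP : IsPGroup p P)
    (x : P) : x ^ p ∈ frattini P := by
  unfold frattini Order.radical
  rw [Subgroup.mem_iInf]
  intro M
  rw [Subgroup.mem_iInf]
  intro hM
  obtain ⟨hn, hidx⟩ := coatom_normal_index hP M hM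
  rw [← hidx]
  exact Subgroup.pow_index_mem M x

end Cfsg.Agent.Lib.Helper22
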